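import Groth.Agent.Pic13.K244.NumBC
import Groth.Agent.Pic13.K244.PushInj
import Groth.Agent.Models.K381.DisjModel
import Groth.Agent.CurvSt.K896.IrrTop
import Groth.Agent.Variety.K658.RelDimComp
import Groth.Agent.Surf.K457.Smooth
import Groth.Agent.Grpsch.CubeClosed
import Groth.Agent.Vancyc.H878.RelOmega
import Groth.Agent.Vancyc.H878.OmegaRank
import Groth.Agent.Krr.H482.PullFinal
import Groth.Agent.Krr.H487.ExtPull
import Groth.Agent.S15540
import Groth.Agent.S0034
import Groth.Prelude.Def_Canon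
import Groth.Prelude.Def_Pic13

/-!
# Numerically trivial canonical sheaves: reduction to integral surfaces over algebraically closed fields

* `eq_one_of_ext`: `X` integral proper over `k`, a class on `X` which is trivial on `X_{k'}` is trivial.
* `exists_pow_eq_one`: torsion classes on a Noetherian scheme with integral local rings may be tested on the integral
  closed and open subschemes.
* `main`: if the canonical sheaf of every integral smooth proper surface with an ample sheaf over an algebraically closed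
  field is torsion as soon as it is numerically trivial, then the same holds for all smooth proper surfaces over all
  fields.
-/

set_option autoImplicit false
universe u
open CategoryTheory CategoryTheory.Limits AlgebraicGeometry TopologicalSpace

namespace K249.NumTrivDesc

open Groth.Agent Groth.Agent.Grpsch.PicGrp Groth.Agent.Fdesc.LocGen

/-- A nonzero section of a class on an integral scheme proper over `k`, from the triviality of its pullback to a nonempty
base change. -/
theorem exists_section {k : Type u} [Field k] {k' : Type u} [Field k'] [Algebra k k']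
    {X : Scheme.{u}} [X.Over (Spec (CommRingCat.of k))] [IsProper (X ↘ Spec (CommRingCat.of k))]
    {X' : Scheme.{u}} [X'.Over (Spec (CommRingCat.of k'))] [Nonempty X'] {g : X' ⟶ X}
    (hpb : IsPullback g (X' ↘ Spec (CommRingCat.of k')) (X ↘ Spec (CommRingCat.of k))
      (Spec.map (CommRingCat.ofHom (algebraMap k k'))))
    (N : X.Modules) (hN : PicF.IsInvertible N) (h1 : pull g (mk N hN) = 1) : ∃ s : Γ(N, ⊤), s ≠ 0 := by
  have hcs : CompactSpace X :=
    (quasiCompact_iff_compactSpace (f := X ↘ Spec (CommRingCat.of k))).mp inferInstance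
  have hqs : QuasiSeparatedSpace X :=
    (quasiSeparated_iff_quasiSeparatedSpace (f := X ↘ Spec (CommRingCat.of k))).mp inferInstance
  rw [pull_mk, mk_eq_one_iff] at h1
  obtain ⟨e⟩ := h1
  have hq := Ega2.QCohLocal.isQCoh_of_isInvertible hN
  by_contra hcon
  push Not at hcon
  have hsub : Subsingleton (Coh.HH X N 0) := by
    refine ⟨fun a b => ?_⟩
    apply (CurvesB.HZero.equivAdd N).injective
    rw [hcon (CurvesB.HZero.equivAdd N a), hcon (CurvesB.HZero.equivAdd N b)]
  obtain ⟨e2⟩ := Groth.Agent.S0034.result k k' X X' g hpb N 0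
  have hsub2 : Subsingleton (TensorProduct k k' (Coh.HH X N 0)) := inferInstance
  have hsub3 : Subsingleton (Coh.HH X' ((Scheme.Modules.pullback g).obj N) 0) := e2.symm.subsingleton
  have hbij : Function.Bijective (e.hom.app ⊤) :=
    ConcreteCategory.bijective_of_isIso (e.hom.app ⊤)
  let ψ : Coh.HH X' ((Scheme.Modules.pullback g).obj N) 0 ≃+ Γ(X', ⊤) := (CurvesB.HZero.equivAdd _).trans
    ((AddEquiv.ofBijective (e.hom.app ⊤).hom hbij).trans ofFun.symm)
  have hsub4 : Subsingleton Γ(X', ⊤) := ψ.symm.subsingleton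
  have hne : Nonempty (⊤ : X'.Opens) := ⟨⟨Classical.arbitrary X', trivial⟩⟩
  have hnt : Nontrivial Γ(X', ⊤) := inferInstance
  exact not_subsingleton Γ(X', ⊤) hsub4

/-- Triviality of a class on an integral proper scheme descends along extensions of the base field. -/
theorem eq_one_of_ext {k : Type u} [Field k] {k' : Type u} [Field k'] [Algebra k k']
    {X : Scheme.{u}} [X.Over (Spec (CommRingCat.of k))] [IsProper (X ↘ Spec (CommRingCat.of k))] [IsIntegral X]
    {X' : Scheme.{u}} [X'.Over (Spec (CommRingCat.of k'))] {g : X' ⟶ X}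
    (hpb : IsPullback g (X' ↘ Spec (CommRingCat.of k')) (X ↘ Spec (CommRingCat.of k))
      (Spec.map (CommRingCat.ofHom (algebraMap k k')))) (c : Pic X) (hc : pull g c = 1) : c = 1 := by
  obtain ⟨L, hL, rfl⟩ := exists_mk c
  have hM : PicF.IsInvertible (Grpsch.PicGrp.dual L) := isInvertible_dual hL
  have hprod : mk L hL * mk (Grpsch.PicGrp.dual L) hM = 1 := by rw [← inv_mk hL, mul_inv_cancel]
  have hsurj : Surjective g := by
    have : Surjective (Spec.map (CommRingCat.ofHom (algebraMap k k'))) := by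
      refine ⟨fun y => ⟨Nonempty.some inferInstance, Subsingleton.elim _ _⟩⟩
    exact MorphismProperty.of_isPullback hpb.flip inferInstance
  obtain ⟨x⟩ := (inferInstance : Nonempty X)
  obtain ⟨x', -⟩ := g.surjective x
  have hne : Nonempty X' := ⟨x'⟩
  obtain ⟨s, hs⟩ := exists_section hpb L hL hc
  obtain ⟨t, ht⟩ := exists_section hpb _ hM (by rw [← inv_mk hL, map_inv, hc, inv_one])
  have hF : IsField Γ(X, ⊤) := isField_of_universallyClosed k (X ↘ Spec (CommRingCat.of k))
  exact Grpsch.CubeClosed.eq_one_of_sections hF hL hM hprod s hs t ht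

/-- Torsion classes may be tested on the integral closed and open subschemes. -/
theorem exists_pow_eq_one {X : Scheme.{u}} [IsNoetherian X] (hX : ∀ x : X, IsDomain (X.presheaf.stalk x)) (c : Pic X)
    (h : ∀ U : X.Opens, IsIntegral (U : Scheme.{u}) → IsClosedImmersion U.ι → ∃ d : ℕ, 0 < d ∧ pull U.ι c ^ d = 1) :
    ∃ d : ℕ, 0 < d ∧ c ^ d = 1 := by
  obtain ⟨ι, hfin, Z, -, hint, hcl, hcov, hdisj⟩ := K381.DisjModel.exists_decomp X hX
  choose d hd hcd using fun i => h (Z i) (hint i) (hcl i)
  have := Fintype.ofFinite ι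
  refine ⟨∏ i, d i, Finset.prod_pos fun i _ => hd i, ?_⟩
  refine K244.PushInj.eq_one_of_disjoint Z hcov (fun i j hij => (hdisj i j hij).eq_bot) _ fun i => ?_
  obtain ⟨m, hm⟩ := Finset.dvd_prod_of_mem d (Finset.mem_univ i)
  rw [map_pow, hm, pow_mul, hcd, one_pow]

/-- The canonical sheaf of an open subscheme. -/
theorem isTopDiff_open {X S : Scheme.{u}} (f : X ⟶ S) [QuasiSeparated f] (U : X.Opens) [QuasiSeparated (U.ι ≫ f)]
    (n : ℕ) {ω : X.Modules} (hω : _root_.Canon.IsTopDiff f n ω) :
    _root_.Canon.IsTopDiff (U.ι ≫ f) n ((Scheme.Modules.pullback U.ι).obj ω) :=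
  Groth.Agent.S15540.result X S U S f (U.ι ≫ f) U.ι (𝟙 S) (by rw [Category.comp_id]) n ω hω

/-- The canonical sheaf of a base change. -/
theorem isTopDiff_baseChange {X S X' S' : Scheme.{u}} {f : X ⟶ S} {f' : X' ⟶ S'} {g : X' ⟶ X} {h : S' ⟶ S}
    (hpb : IsPullback g f' f h) [Smooth f] [QuasiSeparated f] (n : ℕ) {ω : X.Modules} (hω : _root_.Canon.IsTopDiff f n ω) :
    _root_.Canon.IsTopDiff f' n ((Scheme.Modules.pullback g).obj ω) := by
  have hf' : Smooth f' := MorphismProperty.of_isPullback hpb inferInstance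
  have hq' : QuasiSeparated f' := MorphismProperty.of_isPullback hpb inferInstance
  have hE : FlatMod.IsFinLocFree (Omega.sheaf f) := Vancyc.H878.OmegaRank.isFinLocFree_omega f
  have hE' : FlatMod.IsFinLocFree (Omega.sheaf f') := Vancyc.H878.OmegaRank.isFinLocFree_omega f'
  have h1 := Krr.H482.PullFinal.isExtPow_pullback g hE hω
  exact K583.ExtPowPull.isExtPow_of_iso_left (Ega2.QCohLocal.isQCoh_of_isFinLocFree hE')
    (Vancyc.H878.RelOmega.omegaBC hpb) h1

/-- A closed and open subscheme, with the restriction of the canonical sheaf. -/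
theorem of_parts {k : Type u} [Field k] (X : Scheme.{u})
    [X.Over (Spec (CommRingCat.of k))] [IsProper (X ↘ Spec (CommRingCat.of k))]
    [SmoothOfRelativeDimension 2 (X ↘ Spec (CommRingCat.of k))]
    (ω : X.Modules) (hω : _root_.Canon.IsTopDiff (X ↘ Spec (CommRingCat.of k)) 2 ω) (hωi : PicF.IsInvertible ω)
    (hnum : Pic13.IsNumEquivZero k X ω)
    (H : ∀ (Y : Scheme.{u}) [Y.Over (Spec (CommRingCat.of k))] [IsProper (Y ↘ Spec (CommRingCat.of k))]
      [SmoothOfRelativeDimension 2 (Y ↘ Spec (CommRingCat.of k))] [IsIntegral Y]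
      (ω : Y.Modules) (_ : _root_.Canon.IsTopDiff (Y ↘ Spec (CommRingCat.of k)) 2 ω) (hωi : PicF.IsInvertible ω)
      (_ : Pic13.IsNumEquivZero k Y ω), ∃ d : ℕ, 0 < d ∧ mk ω hωi ^ d = 1) :
    ∃ d : ℕ, 0 < d ∧ mk ω hωi ^ d = 1 := by
  have hln : IsLocallyNoetherian X := LocallyOfFiniteType.isLocallyNoetherian (X ↘ (Spec (CommRingCat.of k)))
  have hcs : CompactSpace X := (quasiCompact_iff_compactSpace (X ↘ (Spec (CommRingCat.of k)))).mp inferInstance
  have hN : AlgebraicGeometry.IsNoetherian X := {}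
  have hsm : Smooth (X ↘ Spec (CommRingCat.of k)) := SmoothOfRelativeDimension.smooth 2 _
  refine exists_pow_eq_one (fun x => K896.IrrTop.isDomain_stalk_of_smooth (X ↘ Spec (CommRingCat.of k)) x) _
    fun U hU hcl => ?_
  let _ : (U : Scheme.{u}).Over (Spec (CommRingCat.of k)) := ⟨U.ι ≫ (X ↘ Spec (CommRingCat.of k))⟩
  have h1 : IsProper ((U : Scheme.{u}) ↘ Spec (CommRingCat.of k)) :=
    inferInstanceAs (IsProper (U.ι ≫ (X ↘ Spec (CommRingCat.of k))))
  have h2 : SmoothOfRelativeDimension 2 ((U : Scheme.{u}) ↘ Spec (CommRingCat.of k)) := by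
    have h3 : SmoothOfRelativeDimension (0 + 2) (U.ι ≫ (X ↘ Spec (CommRingCat.of k))) := inferInstance
    exact h3
  have hq : QuasiSeparated (U.ι ≫ (X ↘ Spec (CommRingCat.of k))) := inferInstance
  rw [pull_mk]
  exact H U _ (isTopDiff_open _ U 2 hω) _
    (Groth.Agent.Pic13.H960.NumDescent.isNumEquivZero_pullback k U.ι rfl hωi hnum)

/-- **Reduction to integral surfaces over algebraically closed fields.** -/
theorem of_algClosed
    (H : ∀ (k : Type u) [Field k] [IsAlgClosed k] (X : Scheme.{u})
      [X.Over (Spec (CommRingCat.of k))] [IsProper (X ↘ Spec (CommRingCat.of k))]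
      [SmoothOfRelativeDimension 2 (X ↘ Spec (CommRingCat.of k))] [IsIntegral X]
      (ω : X.Modules) (_ : _root_.Canon.IsTopDiff (X ↘ Spec (CommRingCat.of k)) 2 ω) (hωi : PicF.IsInvertible ω)
      (_ : Pic13.IsNumEquivZero k X ω), ∃ d : ℕ, 0 < d ∧ mk ω hωi ^ d = 1)
    (k : Type u) [Field k] (X : Scheme.{u})
    [X.Over (Spec (CommRingCat.of k))] [IsProper (X ↘ Spec (CommRingCat.of k))]
    [SmoothOfRelativeDimension 2 (X ↘ Spec (CommRingCat.of k))]
    (ω : X.Modules) (hω : _root_.Canon.IsTopDiff (X ↘ Spec (CommRingCat.of k)) 2 ω) (hωi : PicF.IsInvertible ω)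
    (hnum : Pic13.IsNumEquivZero k X ω) :
    ∃ d : ℕ, 0 < d ∧ mk ω hωi ^ d = 1 := by
  refine of_parts X ω hω hωi hnum ?_
  clear! X
  intro X _ _ _ _ ω hω hωi hnum
  let K := AlgebraicClosure k
  let s : Spec (CommRingCat.of K) ⟶ Spec (CommRingCat.of k) := Spec.map (CommRingCat.ofHom (algebraMap k K))
  have hs : IsIntegralHom s := by
    rw [IsIntegralHom.SpecMap_iff]
    exact algebraMap_isIntegral_iff.mpr inferInstance
  let X' : Scheme.{u} := pullback (X ↘ Spec (CommRingCat.of k)) s
  let _ : X'.Over (Spec (CommRingCat.of K)) := ⟨pullback.snd (X ↘ Spec (CommRingCat.of k)) s⟩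
  have hpb : IsPullback (pullback.fst (X ↘ Spec (CommRingCat.of k)) s) (X' ↘ Spec (CommRingCat.of K))
      (X ↘ Spec (CommRingCat.of k)) s := IsPullback.of_hasPullback _ _
  have hp' : IsProper (X' ↘ Spec (CommRingCat.of K)) := MorphismProperty.of_isPullback hpb inferInstance
  have hsb := smoothOfRelativeDimension_isStableUnderBaseChange 2
  have hsm' : SmoothOfRelativeDimension 2 (X' ↘ Spec (CommRingCat.of K)) :=
    MorphismProperty.of_isPullback (P := @SmoothOfRelativeDimension 2) hpb inferInstance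
  have hsm : Smooth (X ↘ Spec (CommRingCat.of k)) := SmoothOfRelativeDimension.smooth 2 _
  have hωi' : PicF.IsInvertible ((Scheme.Modules.pullback (pullback.fst (X ↘ Spec (CommRingCat.of k)) s)).obj ω) :=
    isInvertible_pullback _ hωi
  obtain ⟨d, hd, hd1⟩ := of_parts X' _ (isTopDiff_baseChange hpb 2 hω) hωi'
    (K244.NumBC.isNumEquivZero_pullback_of_integral hpb hωi hnum)
    (fun Y _ _ _ _ ω' hω' hωi' hnum' => H K Y ω' hω' hωi' hnum')
  refine ⟨d, hd, eq_one_of_ext hpb _ ?_⟩
  rw [map_pow, pull_mk, hd1]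

end K249.NumTrivDesc
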