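import Groth.Agent.Surf.K249.NumTrivDesc
import Groth.Agent.Surf.K456.AmpleEx

/-!
# Numerically trivial canonical sheaves of surfaces: reduction to integral projective surfaces over algebraically closed
fields
-/

set_option autoImplicit false
universe u
open CategoryTheory CategoryTheory.Limits AlgebraicGeometry TopologicalSpace

namespace K249.NumTrivMain

open Groth.Agent Groth.Agent.Grpsch.PicGrp Groth.Agent.Fdesc.LocGen

/-- The statement over algebraically closed fields, for integral surfaces with an ample sheaf, implies the statement for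
all smooth proper surfaces over all fields. -/
theorem main
    (H : ∀ (k : Type u) [Field k] [IsAlgClosed k] (X : Scheme.{u})
      [X.Over (Spec (CommRingCat.of k))] [IsProper (X ↘ Spec (CommRingCat.of k))]
      [SmoothOfRelativeDimension 2 (X ↘ Spec (CommRingCat.of k))] [IsIntegral X]
      (_ : ∃ A : X.Modules, CohB1.IsAmple A)
      (ω : X.Modules) (_ : _root_.Canon.IsTopDiff (X ↘ Spec (CommRingCat.of k)) 2 ω)
      (_ : _root_.Pic13.IsNumEquivZero k X ω),
      ∃ d : ℕ, 0 < d ∧ Nonempty (CohB1.tensorPow ω d ≅ Coh.structureModule X))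
    (k : Type u) [Field k] (X : Scheme.{u})
    [X.Over (Spec (CommRingCat.of k))] [IsProper (X ↘ Spec (CommRingCat.of k))]
    [SmoothOfRelativeDimension 2 (X ↘ Spec (CommRingCat.of k))]
    (ω : X.Modules) (hω : _root_.Canon.IsTopDiff (X ↘ Spec (CommRingCat.of k)) 2 ω)
    (hnum : _root_.Pic13.IsNumEquivZero k X ω) :
    ∃ d : ℕ, 0 < d ∧ Nonempty (CohB1.tensorPow ω d ≅ Coh.structureModule X) := by
  have hωi : PicF.IsInvertible ω := K457.Smooth.isInvertible_canonical k X 2 hω
  obtain ⟨d, hd, h⟩ := NumTrivDesc.of_algClosed (fun k _ _ X _ _ _ _ ω hω hωi hnum => by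
    have hsm : Smooth (X ↘ Spec (CommRingCat.of k)) := SmoothOfRelativeDimension.smooth 2 _
    obtain ⟨d, hd, hd1⟩ := H k X (K456.AmpleEx.exists_ample k X
      (K658.RelDimComp.topologicalKrullDim_eq 2 (X ↘ Spec (CommRingCat.of k)))) ω hω hnum
    refine ⟨d, hd, ?_⟩
    rw [← mk_tensorPow, mk_eq_one_iff]
    exact hd1) k X ω hω hωi hnum
  refine ⟨d, hd, ?_⟩
  rwa [← mk_tensorPow, mk_eq_one_iff] at h

end K249.NumTrivMain
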